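import Cfsg.Agent.Lib.BrauerMap.Inflation
import Cfsg.Agent.Lib.Blocks.Orthogonality
import Cfsg.Agent.Lib.BlocksChars5.Basic
import Cfsg.Agent.Lib.Transfer.PResidual

/-!
# Non-principal blocks of a quotient by a central subgroup of order p

`exists_lift`: a non-principal block of `H`, for a surjection `C → H` with central kernel of order
`p`, gives a non-principal block of `C` of larger defect.
-/

set_option autoImplicit false

namespace Cfsg.Agent.Lib.DeficiencyBound.CentralQuotient

open MonoidAlgebra Cfsg.Agent.Lib.Blocks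
open Cfsg.Agent.Lib.BrauerMap.Inflation (infl infl_apply)
open Cfsg.Agent.Lib.Characters.Basic (oneChar)

universe u

variable {C H : Type u} [Group C] [Finite C] [Group H] [Finite H] {p : ℕ} [Fact p.Prime]
  {M : Ideal Cfsg.AlgInt}

/-- Each p-regular element of `H` has exactly one p-regular preimage. -/
theorem existsUnique_regular (f : C →* H) (hf : Function.Surjective f)
    (hc : f.ker ≤ Subgroup.center C) (hker : IsPGroup p f.ker) (h : H) (hh : ¬ p ∣ orderOf h) :
    ∃! c : C, f c = h ∧ ¬ p ∣ orderOf c := by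
  have hp : p.Prime := Fact.out
  obtain ⟨g, rfl⟩ := hf h
  obtain ⟨a, b, haz, -, hab, -, ⟨k, hk⟩, hb⟩ :=
    Transfer.PResidual.exists_pPart_mul_pPrimePart (p := p) g (isOfFinOrder_of_finite g)
  have hfa : f a = 1 := by
    rw [← orderOf_eq_one_iff]
    have h1 : orderOf (f a) ∣ p ^ k := orderOf_dvd_of_pow_eq_one (by rw [← map_pow, hk, map_one])
    have h2 : orderOf (f a) ∣ orderOf (f g) := by
      obtain ⟨z, rfl⟩ := haz
      exact orderOf_dvd_of_pow_eq_one (by
        rw [map_zpow, ← zpow_natCast, ← zpow_mul, mul_comm, zpow_mul, zpow_natCast,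
          pow_orderOf_eq_one, one_zpow])
    exact Nat.eq_one_of_dvd_coprimes
      (Nat.Coprime.pow_left k (hp.coprime_iff_not_dvd.mpr hh)) h1 h2
  refine ⟨b, ⟨by rw [← hab, map_mul, hfa, one_mul], ?_⟩, fun c ⟨hc1, hc2⟩ => ?_⟩
  · exact hp.coprime_iff_not_dvd.mp hb.symm
  · have hfb : f b = f g := by rw [← hab, map_mul, hfa, one_mul]
    have hz : b⁻¹ * c ∈ f.ker := by rw [MonoidHom.mem_ker, map_mul, map_inv, hfb, hc1, inv_mul_cancel]
    obtain ⟨j, hj⟩ := hker ⟨_, hz⟩
    have hcomm : Commute b c := by
      have := (Subgroup.mem_center_iff.mp (hc hz) b)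
      show b * c = c * b
      calc b * c = b * (b * (b⁻¹ * c)) := by group
        _ = b * ((b⁻¹ * c) * b) := by rw [this]
        _ = c * b := by group
    have h1 : orderOf (b⁻¹ * c) ∣ p ^ j :=
      orderOf_dvd_of_pow_eq_one (congrArg Subtype.val hj)
    have h2 : orderOf (b⁻¹ * c) ∣ Nat.lcm (orderOf b) (orderOf c) := by
      rw [← orderOf_inv b]
      exact hcomm.inv_left.orderOf_mul_dvd_lcm
    have hcop : Nat.Coprime (p ^ j) (Nat.lcm (orderOf b) (orderOf c)) :=
      Nat.Coprime.pow_left j (Nat.Coprime.coprime_dvd_right (Nat.lcm_dvd_mul _ _)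
        (Nat.Coprime.mul_right hb.symm (hp.coprime_iff_not_dvd.mpr hc2)))
    have h3 := Nat.eq_one_of_dvd_coprimes hcop h1 h2
    rw [orderOf_eq_one_iff, inv_mul_eq_one] at h3
    exact h3.symm

/-- Characters in the same block upstairs are in the same block downstairs. -/
theorem sameBlock_of_infl (hM : Cfsg.IsPModular p M) (f : C →* H) (hf : Function.Surjective f)
    (hc : f.ker ≤ Subgroup.center C) (hker : IsPGroup p f.ker) {χ ψ : Cfsg.IrrCharacter H}
    (h : Cfsg.SameBlock M (infl f hf χ : C → ℂ) (infl f hf ψ : C → ℂ)) :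
    Cfsg.SameBlock M (χ : H → ℂ) (ψ : H → ℂ) := by
  classical
  haveI := hM.2.1
  letI := Fintype.ofFinite C
  letI := Fintype.ofFinite H
  have hB : Cfsg.IsPBlock M (Cfsg.blockOf M (χ : H → ℂ)) := isPBlock_blockOf χ
  set e := blockIdemR hB with he
  let φ : C → localRing M := fun c => if p ∣ orderOf c then 0 else e.1.coeff (f c)
  have hφ : ∀ u g : C, φ (u * g * u⁻¹) = φ g := by
    intro u g
    have h1 : orderOf (u * g * u⁻¹) = orderOf g := (MulAut.conj u).orderOf_eq g
    simp only [φ, h1]
    rw [coeff_eq_of_isConj e (isConj_iff.mpr ⟨f u, show f u * f g * (f u)⁻¹ = f (u * g * u⁻¹) by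
      rw [map_mul, map_mul, map_inv]⟩)]
  set w := ofClassFun φ hφ with hw
  have key : ∀ ξ : Cfsg.IrrCharacter H, omegaR M (infl f hf ξ) w = omegaR M ξ e := by
    intro ξ
    apply Subtype.ext
    rw [coe_omegaR, coe_omegaR, omega_apply, omega_apply, lin_apply, lin_apply, infl_apply,
      map_one]
    congr 1
    have hterm : ∀ c : C, (mapCenter (localRing M).subtype w).1.coeff c * (infl f hf ξ : C → ℂ) c =
        if p ∣ orderOf c then 0
        else (mapCenter (localRing M).subtype e).1.coeff (f c) * (ξ : H → ℂ) (f c) := by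
      intro c
      rw [coeff_mapCenter, coeff_mapCenter, hw, coeff_ofClassFun, infl_apply]
      simp only [φ]
      split_ifs
      · rw [map_zero, zero_mul]
      · rfl
    rw [Finset.sum_congr rfl fun c _ => hterm c, Finset.sum_ite, Finset.sum_const_zero, zero_add]
    have hz : ∀ x : H, p ∣ orderOf x →
        (mapCenter (localRing M).subtype e).1.coeff x * (ξ : H → ℂ) x = 0 := fun x hx => by
      rw [coeff_mapCenter, he]
      show ((((blockIdemR hB).1.coeff x : localRing M)) : ℂ) * _ = 0
      rw [coe_coeff_blockIdemR, blockCoeff_eq_zero_of_dvd hM hB hx, zero_mul]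
    rw [← Finset.sum_subset (Finset.subset_univ (Finset.univ.filter fun x : H => ¬ p ∣ orderOf x))
      (fun x _ hx => hz x (by simpa using hx))]
    refine Finset.sum_bij (fun c _ => f c) (fun c hc' => ?_) (fun c hc' c' hc'' hcc => ?_)
      (fun x hx => ?_) (fun c _ => rfl)
    · have := (Finset.mem_filter.mp hc').2
      exact Finset.mem_filter.mpr ⟨Finset.mem_univ _, fun hd => this (hd.trans (orderOf_map_dvd f c))⟩
    · have h1 := (Finset.mem_filter.mp hc').2
      have h2 := (Finset.mem_filter.mp hc'').2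
      exact (existsUnique_regular f hf hc hker (f c)
        (fun hd => h1 (hd.trans (orderOf_map_dvd f c)))).unique ⟨rfl, h1⟩ ⟨hcc.symm, h2⟩
    · obtain ⟨c, hc1, hc2⟩ := (existsUnique_regular f hf hc hker x (Finset.mem_filter.mp hx).2).exists
      exact ⟨c, Finset.mem_filter.mpr ⟨Finset.mem_univ _, hc2⟩, hc1⟩
  rw [sameBlock_iff_omegaBar] at h
  have h' := DFunLike.congr_fun h (mapCenter (residue M) w)
  rw [omegaBar_mapCenter, omegaBar_mapCenter, key, key, he, omegaR_blockIdemR, omegaR_blockIdemR,
    if_pos (mem_blockOf_self χ)] at h'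
  by_contra hne
  have hmem : ψ ∉ Cfsg.blockOf M (χ : H → ℂ) := fun hm => hne (by
    first | exact hm | exact sameBlock_symm hm)
  rw [if_neg hmem, map_one, map_zero] at h'
  exact one_ne_zero h'

/-- A non-principal block downstairs gives a non-principal block of larger defect upstairs. -/
theorem exists_lift (hM : Cfsg.IsPModular p M) (f : C →* H) (hf : Function.Surjective f)
    (hc : f.ker ≤ Subgroup.center C) (hker : Nat.card f.ker = p)
    {B : Set (Cfsg.IrrCharacter H)} (hB : Cfsg.IsPBlock M B)
    (hne : B ≠ Cfsg.principalBlock M H) :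
    ∃ B' : Set (Cfsg.IrrCharacter C), Cfsg.IsPBlock M B' ∧ B' ≠ Cfsg.principalBlock M C ∧
      Cfsg.blockDefect p B < Cfsg.blockDefect p B' := by
  classical
  haveI := hM.2.1
  have hkp : IsPGroup p f.ker := IsPGroup.of_card (n := 1) (by rw [hker, pow_one])
  set S := (fun χ : Cfsg.IrrCharacter H => (Cfsg.charDegree (χ : H → ℂ)).factorization p) '' B
  obtain ⟨χ, hχ, hv⟩ : sInf S ∈ S := Nat.sInf_mem ((isPBlock_nonempty hB).image _)
  refine ⟨_, isPBlock_blockOf (infl f hf χ), fun heq => hne ?_, ?_⟩
  · have h1 : oneChar C ∈ Cfsg.blockOf M (infl f hf χ : C → ℂ) := by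
      rw [heq]; exact oneChar_mem_principalBlock
    have h2 : infl f hf (oneChar H) = oneChar C := Subtype.ext (funext fun _ => rfl)
    rw [← h2] at h1
    have h3 := sameBlock_of_infl hM f hf hc hkp (χ := χ) (ψ := oneChar H) (by
      first | exact h1 | exact sameBlock_symm h1)
    have hmem : oneChar H ∈ B := by
      obtain ⟨χ₀, rfl⟩ := hB
      rw [← blockOf_eq_of_mem hχ]
      first | exact h3 | exact sameBlock_symm h3
    obtain ⟨χ₀, rfl⟩ := hB
    rw [← blockOf_eq_of_mem hmem]
    rfl
  · have hd : Cfsg.charDegree (infl f hf χ : C → ℂ) = Cfsg.charDegree (χ : H → ℂ) :=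
      BlocksChars5.Basic.charDegree_congr (by rw [infl_apply, map_one])
    have hle : sInf ((fun χ : Cfsg.IrrCharacter C =>
        (Cfsg.charDegree (χ : C → ℂ)).factorization p) ''
          Cfsg.blockOf M (infl f hf χ : C → ℂ)) ≤ sInf S :=
      Nat.sInf_le ⟨_, mem_blockOf_self (infl f hf χ), by simpa only [hd] using hv⟩
    have hcard : Nat.card C = Nat.card H * p := by
      rw [← hker, Subgroup.card_eq_card_quotient_mul_card_subgroup f.ker,
        Nat.card_congr (QuotientGroup.quotientKerEquivOfSurjective f hf).toEquiv]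
    have hfac : (Nat.card C).factorization p = (Nat.card H).factorization p + 1 := by
      rw [hcard, Nat.factorization_mul Nat.card_pos.ne' (Fact.out : p.Prime).ne_zero,
        Finsupp.add_apply, (Fact.out : p.Prime).factorization_self]
    have hvle : sInf S ≤ (Nat.card H).factorization p := by
      rw [← hv]
      exact (Nat.factorization_le_iff_dvd (BlocksChars5.Basic.degree_pos χ).ne' Nat.card_pos.ne').mpr
        (BlocksChars5.Basic.degree_dvd_card χ) p
    show (Nat.card H).factorization p - sInf S < (Nat.card C).factorization p - _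
    omega

end Cfsg.Agent.Lib.DeficiencyBound.CentralQuotient
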