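import Mathlib

/-!
# Groups with a four-subgroup all of whose involution centralisers are small

`exists_bound`: a bound on the order of a finite group from a bound on its Sylow 2-order and on the
centralisers of the involutions of one elementary abelian subgroup of order at least 4.  No
classification and no odd order theorem: odd normal subgroups are bounded by three centralisers,
minimal normal subgroups by the count of Brauer and Fowler.
-/

set_option autoImplicit false

namespace Cfsg.Agent.Lib.DeficiencyBound.GroupBound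

open scoped Nat

universe u

variable {G : Type u} [Group G] [Finite G]

section odd

/-- The square root exponent in a subgroup of odd order. -/
theorem exists_root (O : Subgroup G) (hodd : Odd (Nat.card O)) :
    ∃ k : ℕ, ∀ x ∈ O, (x ^ k) * (x ^ k) = x := by
  obtain ⟨j, hj⟩ := hodd
  refine ⟨j + 1, fun x hx => ?_⟩
  have h1 : x ^ (2 * j + 1) = 1 := by
    rw [← hj]
    exact congrArg Subtype.val (pow_card_eq_one' (x := (⟨x, hx⟩ : O)))
  rw [← pow_add, show j + 1 + (j + 1) = (2 * j + 1) + 1 by ring, pow_succ, h1, one_mul]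

/-- A normal subgroup of odd order is bounded by three involution centralisers of a four-group. -/
theorem card_odd_le (O : Subgroup G) [O.Normal] (hodd : Odd (Nat.card O)) {y₁ y₂ : G}
    (h₁ : y₁ * y₁ = 1) (h₂ : y₂ * y₂ = 1) (hc : Commute y₁ y₂) :
    Nat.card O ≤ Nat.card (Subgroup.centralizer ({y₁} : Set G)) *
      (Nat.card (Subgroup.centralizer ({y₂} : Set G)) *
        Nat.card (Subgroup.centralizer ({y₁ * y₂} : Set G))) := by
  classical
  obtain ⟨k, hk⟩ := exists_root O hodd
  have hi₁ : y₁⁻¹ = y₁ := inv_eq_of_mul_eq_one_right h₁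
  have hi₂ : y₂⁻¹ = y₂ := inv_eq_of_mul_eq_one_right h₂
  let a : G →* G := (MulAut.conj y₁).toMonoidHom
  let b : G →* G := (MulAut.conj y₂).toMonoidHom
  have ha : ∀ x, a x = y₁ * x * y₁ := fun x => by simp [a, hi₁]
  have hb : ∀ x, b x = y₂ * x * y₂ := fun x => by simp [b, hi₂]
  have haa : ∀ x, a (a x) = x := fun x => by
    rw [ha, ha, show y₁ * (y₁ * x * y₁) * y₁ = (y₁ * y₁) * x * (y₁ * y₁) by group, h₁, one_mul,
      mul_one]
  have hbb : ∀ x, b (b x) = x := fun x => by
    rw [hb, hb, show y₂ * (y₂ * x * y₂) * y₂ = (y₂ * y₂) * x * (y₂ * y₂) by group, h₂, one_mul,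
      mul_one]
  have hab : ∀ x, a (b x) = b (a x) := fun x => by
    rw [ha, hb, hb, ha, show y₁ * (y₂ * x * y₂) * y₁ = (y₁ * y₂) * x * (y₂ * y₁) by group,
      hc.eq, show y₂ * y₁ * x * (y₂ * y₁) = y₂ * y₁ * x * (y₂ * y₁) from rfl]
    nth_rewrite 2 [← hc.eq]
    group
  have haO : ∀ x ∈ O, a x ∈ O := fun x hx => ‹O.Normal›.conj_mem x hx y₁
  have hbO : ∀ x ∈ O, b x ∈ O := fun x hx => ‹O.Normal›.conj_mem x hx y₂
  have hfix : ∀ (y x : G), y * y = 1 → y * x * y = x → x ∈ Subgroup.centralizer ({y} : Set G) := by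
    intro y x hy hx
    rw [Subgroup.mem_centralizer_singleton_iff]
    have h := congrArg (· * y) hx
    rw [mul_assoc, hy, mul_one] at h
    exact h.symm
  let I : Set G := {i | i ∈ O ∧ a i = i⁻¹}
  -- `x = c s` with `c` fixed and `s` inverted
  have key : ∀ x ∈ O, ∃ c ∈ Subgroup.centralizer ({y₁} : Set G), ∃ s ∈ I, x = c * s := by
    intro x hx
    set j := x⁻¹ * a x with hj
    have hjO : j ∈ O := mul_mem (O.inv_mem hx) (haO x hx)
    have hja : a j = j⁻¹ := by rw [hj, map_mul, map_inv, haa, mul_inv_rev, inv_inv]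
    refine ⟨x * j ^ k, hfix _ _ h₁ ?_, (j ^ k)⁻¹, ⟨O.inv_mem (O.pow_mem hjO k), ?_⟩, by group⟩
    · rw [← ha, map_mul, map_pow, hja, inv_pow]
      have hx' : a x = x * (j ^ k * j ^ k) := by rw [hk j hjO, hj]; group
      rw [hx']
      group
    · rw [map_inv, map_pow, hja, inv_pow, inv_inv]
  have hO : Nat.card O ≤ Nat.card (Subgroup.centralizer ({y₁} : Set G)) * Nat.card I := by
    rw [← Nat.card_prod]
    choose c hc' s hs hcs using key
    refine Nat.card_le_card_of_injective
      (fun x : O => ((⟨c x x.2, hc' x x.2⟩ : Subgroup.centralizer ({y₁} : Set G)),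
        (⟨s x x.2, hs x x.2⟩ : I))) fun x x' h => ?_
    simp only [Prod.mk.injEq, Subtype.mk.injEq] at h
    apply Subtype.ext
    rw [hcs x x.2, hcs x' x'.2, h.1, h.2]
  -- elements inverted by `y₁`
  have key2 : ∀ i ∈ I, ∃ c ∈ Subgroup.centralizer ({y₂} : Set G),
      ∃ s ∈ Subgroup.centralizer ({y₁ * y₂} : Set G), i = s * c * s := by
    rintro i ⟨hi, hia⟩
    set r := (i * b i) ^ k with hr
    have hrr : r * r = i * b i := hk _ (mul_mem hi (hbO i hi))
    set t := r * (b i)⁻¹ with ht
    have htO : t ∈ O := mul_mem (O.pow_mem (mul_mem hi (hbO i hi)) k) (O.inv_mem (hbO i hi))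
    have hpow : ∀ g u : G, (g * u * g⁻¹) ^ k = g * u ^ k * g⁻¹ := fun g u => conj_pow
    have hbr : b r = i⁻¹ * r * i⁻¹⁻¹ := by
      rw [hr, map_pow, map_mul, hbb, ← hpow]
      group
    have hti : t⁻¹ = i⁻¹ * r := by
      rw [ht, mul_inv_rev, inv_inv]
      calc b i * r⁻¹ = i⁻¹ * (i * b i) * r⁻¹ := by group
        _ = i⁻¹ * r := by rw [← hrr]; group
    have hbt : b t = t⁻¹ := by rw [hti, ht, map_mul, map_inv, hbb, hbr]; group
    have hat : a t = t⁻¹ := by
      have har : a r = i⁻¹ * r⁻¹ * i⁻¹⁻¹ := by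
        rw [hr, map_pow, map_mul, hab, hia, map_inv, ← inv_pow, ← hpow]
        group
      rw [hti, ht, map_mul, map_inv, hab, hia, map_inv, inv_inv, har, inv_inv,
        mul_assoc _ i (b i), ← hrr]
      group
    refine ⟨(t ^ k)⁻¹ * i * (t ^ k)⁻¹, hfix _ _ h₂ ?_, t ^ k, hfix _ _ ?_ ?_, by group⟩
    · rw [← hb, map_mul, map_mul, map_inv, map_pow, hbt, inv_pow, inv_inv]
      have hi' : i = t * b i * t := by
        have : t * b i * t = r * r * (b i)⁻¹ := by rw [ht]; group
        rw [this, hrr]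
        group
      rw [show t * b i * t = (t ^ k * t ^ k) * b i * (t ^ k * t ^ k) by rw [hk t htO]] at hi'
      nth_rewrite 2 [hi']
      group
    · rw [show y₁ * y₂ * (y₁ * y₂) = y₁ * (y₂ * y₁) * y₂ by group, ← hc.eq,
        show y₁ * (y₁ * y₂) * y₂ = (y₁ * y₁) * (y₂ * y₂) by group, h₁, h₂, one_mul]
    · rw [show y₁ * y₂ * t ^ k * (y₁ * y₂) = y₁ * y₂ * t ^ k * (y₂ * y₁) by rw [hc.eq],
        show y₁ * y₂ * t ^ k * (y₂ * y₁) = y₁ * (y₂ * t ^ k * y₂) * y₁ by group, ← hb, ← ha,
        map_pow, hbt, map_pow, map_inv, hat, inv_inv]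
  have hI : Nat.card I ≤ Nat.card (Subgroup.centralizer ({y₂} : Set G)) *
      Nat.card (Subgroup.centralizer ({y₁ * y₂} : Set G)) := by
    rw [← Nat.card_prod]
    choose c hc' s hs hcs using key2
    refine Nat.card_le_card_of_injective
      (fun x : I => ((⟨c x x.2, hc' x x.2⟩ : Subgroup.centralizer ({y₂} : Set G)),
        (⟨s x x.2, hs x x.2⟩ : Subgroup.centralizer ({y₁ * y₂} : Set G)))) fun x x' h => ?_
    simp only [Prod.mk.injEq, Subtype.mk.injEq] at h
    apply Subtype.ext
    rw [hcs x x.2, hcs x' x'.2, h.1, h.2]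
  exact hO.trans (Nat.mul_le_mul_left _ hI)

end odd

/-- The elements conjugating `y` into `yR`. -/
theorem card_preimage_le (R : Subgroup G) (y : G) :
    Nat.card {g : G // y⁻¹ * (g * y * g⁻¹) ∈ R} ≤
      Nat.card R * Nat.card (Subgroup.centralizer ({y} : Set G)) := by
  classical
  let f : {g : G // y⁻¹ * (g * y * g⁻¹) ∈ R} → R := fun g => ⟨_, g.2⟩
  choose rep hrep using fun r : Set.range f => r.2
  rw [← Nat.card_prod]
  refine Nat.card_le_card_of_injective (fun g => (f g,
    (⟨(rep ⟨f g, g, rfl⟩).1⁻¹ * g.1, ?_⟩ : Subgroup.centralizer ({y} : Set G)))) ?_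
  · have h := congrArg Subtype.val (hrep ⟨f g, g, rfl⟩)
    simp only [f] at h
    have h' := mul_left_cancel h
    rw [Subgroup.mem_centralizer_singleton_iff]
    set r := (rep ⟨f g, g, rfl⟩).1
    calc r⁻¹ * g.1 * y = r⁻¹ * (g.1 * y * g.1⁻¹) * g.1 := by group
      _ = r⁻¹ * (r * y * r⁻¹) * g.1 := by rw [h']
      _ = y * (r⁻¹ * g.1) := by group
  · intro g g' h
    simp only [Prod.mk.injEq, Subtype.mk.injEq] at h
    obtain ⟨h1, h2⟩ := h
    have : (rep ⟨f g, g, rfl⟩) = rep ⟨f g', g', rfl⟩ := by congr 1; exact Subtype.ext h1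
    rw [this] at h2
    exact Subtype.ext (mul_left_cancel h2)

/-- An involution of the normal subgroup `R` with a small centraliser bounds the group. -/
theorem card_le_of_mem (R : Subgroup G) [R.Normal] {y : G} (hy : y ∈ R) :
    Nat.card G ≤ Nat.card R * Nat.card (Subgroup.centralizer ({y} : Set G)) := by
  refine le_trans (le_of_eq ?_) (card_preimage_le R y)
  exact (Nat.card_congr (Equiv.subtypeUnivEquiv fun g =>
    mul_mem (R.inv_mem hy) (‹R.Normal›.conj_mem y hy g))).symm

/-- The centraliser of the image of `y` in `G ⧸ R`. -/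
theorem card_centralizer_mk_le (R : Subgroup G) [R.Normal] (y : G) :
    Nat.card (Subgroup.centralizer ({(QuotientGroup.mk y : G ⧸ R)} : Set (G ⧸ R))) ≤
      Nat.card R * Nat.card (Subgroup.centralizer ({y} : Set G)) := by
  classical
  refine le_trans ?_ (card_preimage_le R y)
  have hmem : ∀ c : Subgroup.centralizer ({(QuotientGroup.mk y : G ⧸ R)} : Set (G ⧸ R)),
      y⁻¹ * ((c : G ⧸ R).out * y * (c : G ⧸ R).out⁻¹) ∈ R := by
    intro c
    rw [← QuotientGroup.eq, QuotientGroup.mk_mul, QuotientGroup.mk_mul, QuotientGroup.mk_inv,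
      QuotientGroup.out_eq', Subgroup.mem_centralizer_singleton_iff.mp c.2, mul_inv_cancel_right]
  exact Nat.card_le_card_of_injective (fun c => (⟨(c : G ⧸ R).out, hmem c⟩ :
      {g : G // y⁻¹ * (g * y * g⁻¹) ∈ R}))
    fun c c' h => Subtype.ext (Quotient.out_injective (congrArg Subtype.val h))

/-- The count of Brauer and Fowler inside a normal subgroup. -/
theorem exists_small_index (R : Subgroup G) [R.Normal] {y : G} (hy : y * y = 1) {N : ℕ}
    (hN : Nat.card (Subgroup.centralizer ({y} : Set G)) ≤ N) (hR : N < Nat.card R) :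
    ∃ x : R, x ≠ 1 ∧ (Subgroup.centralizer ({x} : Set R)).index ≤ 2 * N ^ 2 := by
  classical
  letI := Fintype.ofFinite G
  letI := Fintype.ofFinite R
  have hN0 : 0 < N := lt_of_lt_of_le Nat.card_pos hN
  have hyi : y⁻¹ = y := inv_eq_of_mul_eq_one_right hy
  let tfun : R → G := fun r => r * y * (r : G)⁻¹
  let T : Finset G := Finset.univ.image tfun
  have hT2 : ∀ t ∈ T, t * t = 1 := by
    intro t ht
    obtain ⟨r, -, rfl⟩ := Finset.mem_image.mp ht
    rw [show tfun r * tfun r = r * (y * y) * (r : G)⁻¹ by simp only [tfun]; group, hy, mul_one,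
      mul_inv_cancel]
  have hTR : ∀ t ∈ T, ∀ t' ∈ T, t * t' ∈ R := by
    intro t ht t' ht'
    obtain ⟨r, -, rfl⟩ := Finset.mem_image.mp ht
    obtain ⟨r', -, rfl⟩ := Finset.mem_image.mp ht'
    show (r : G) * y * (r : G)⁻¹ * (r' * y * (r' : G)⁻¹) ∈ R
    have h := mul_mem (mul_mem r.2 (‹R.Normal›.conj_mem _ (R.mul_mem (R.inv_mem r.2) r'.2) y))
      (R.inv_mem r'.2)
    rw [hyi] at h
    convert h using 1
    group
  -- orbit size
  have hm : Nat.card R ≤ T.card * N := by
    rw [Nat.card_eq_fintype_card, ← Finset.card_univ, mul_comm]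
    refine Finset.card_le_mul_card_image Finset.univ N fun t ht => ?_
    obtain ⟨r₀, -, hr₀⟩ := Finset.mem_image.mp ht
    refine le_trans ?_ hN
    rw [Nat.card_eq_fintype_card, ← Finset.card_univ]
    refine Finset.card_le_card_of_injOn (fun r : R => (if h : (r₀ : G)⁻¹ * r ∈
      Subgroup.centralizer ({y} : Set G) then ⟨(r₀ : G)⁻¹ * r, h⟩ else 1 :
        Subgroup.centralizer ({y} : Set G))) (fun _ _ => by simp) ?_
    have hmemC : ∀ r : R, tfun r = t →
        (r₀ : G)⁻¹ * r ∈ Subgroup.centralizer ({y} : Set G) := fun r hr => by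
      rw [← hr₀] at hr
      rw [Subgroup.mem_centralizer_singleton_iff]
      simp only [tfun] at hr
      calc (r₀ : G)⁻¹ * r * y = (r₀ : G)⁻¹ * (r * y * (r : G)⁻¹) * r := by group
        _ = (r₀ : G)⁻¹ * (r₀ * y * (r₀ : G)⁻¹) * r := by rw [hr]
        _ = y * ((r₀ : G)⁻¹ * r) := by group
    intro r hr r' hr' h
    rw [Finset.mem_coe, Finset.mem_filter] at hr hr'
    simp only [dif_pos (hmemC r hr.2), dif_pos (hmemC r' hr'.2), Subtype.mk.injEq] at h
    exact Subtype.ext (mul_left_cancel h)
  obtain ⟨x, hx1, hxmax⟩ := Finset.exists_max_image (Finset.univ.erase (1 : R))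
    (fun x => Nat.card (Subgroup.centralizer ({x} : Set R))) (by
      rw [← Finset.card_pos, Finset.card_erase_of_mem (Finset.mem_univ _), Finset.card_univ,
        ← Nat.card_eq_fintype_card]
      omega)
  refine ⟨x, Finset.ne_of_mem_erase hx1, ?_⟩
  set C := Nat.card (Subgroup.centralizer ({x} : Set R)) with hC
  -- the pairs
  let S : Finset (G × G) := T.offDiag
  let prod : G × G → R := fun q => if h : q.1 * q.2 ∈ R then ⟨q.1 * q.2, h⟩ else 1
  have hpairs : S.card ≤ C * (Finset.univ.erase (1 : R)).card := by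
    refine Finset.card_le_mul_card_image_of_maps_to (f := prod) (fun q hq => ?_) C fun z hz => ?_
    · obtain ⟨h1, h2, h3⟩ := Finset.mem_offDiag.mp hq
      rw [Finset.mem_erase]
      refine ⟨fun h => h3 ?_, Finset.mem_univ _⟩
      have h' := congrArg Subtype.val h
      simp only [prod, dif_pos (hTR _ h1 _ h2), OneMemClass.coe_one] at h'
      calc q.1 = q.1 * q.2 * q.2 := by rw [mul_assoc, hT2 _ h2, mul_one]
        _ = q.2 := by rw [h', one_mul]
    · rcases (S.filter fun q => prod q = z).eq_empty_or_nonempty with h0 | ⟨q₀, hq₀⟩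
      · rw [h0]; simp
      refine le_trans ?_ (hxmax z hz)
      rw [Nat.card_eq_fintype_card, ← Finset.card_univ]
      have hdata : ∀ q ∈ S.filter (fun q => prod q = z), q.1 ∈ T ∧ q.2 ∈ T ∧ q.1 * q.2 = z := by
        intro q hq
        obtain ⟨hq1, hq2⟩ := Finset.mem_filter.mp hq
        obtain ⟨h1, h2, -⟩ := Finset.mem_offDiag.mp hq1
        refine ⟨h1, h2, ?_⟩
        rw [← hq2]
        simp only [prod, dif_pos (hTR _ h1 _ h2)]
      have hinv : ∀ q ∈ S.filter (fun q => prod q = z), q.1 * (z : G) * q.1 = (z : G)⁻¹ := by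
        intro q hq
        obtain ⟨h1, h2, h3⟩ := hdata q hq
        rw [← h3, mul_inv_rev, inv_eq_of_mul_eq_one_right (hT2 _ h1),
          inv_eq_of_mul_eq_one_right (hT2 _ h2), ← mul_assoc, hT2 _ h1, one_mul]
      let c : G × G → Subgroup.centralizer ({z} : Set R) := fun q =>
        if h : q ∈ S.filter (fun q => prod q = z) then
          ⟨⟨q.1 * q₀.1, hTR _ (hdata q h).1 _ (hdata q₀ hq₀).1⟩, by
            rw [Subgroup.mem_centralizer_singleton_iff]
            apply Subtype.ext
            show q.1 * q₀.1 * (z : G) = (z : G) * (q.1 * q₀.1)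
            have e1 := hinv q h
            have e2 := hinv q₀ hq₀
            have f1 := hT2 _ (hdata q h).1
            have f2 := hT2 _ (hdata q₀ hq₀).1
            have e1' : q.1 * (z : G)⁻¹ * q.1 = z := by
              rw [← e1, show q.1 * (q.1 * (z : G) * q.1) * q.1 = q.1 * q.1 * z * (q.1 * q.1) by
                group, f1, one_mul, mul_one]
            calc q.1 * q₀.1 * (z : G) = q.1 * q₀.1 * z * (q₀.1 * q₀.1) := by rw [f2, mul_one]
              _ = q.1 * (q₀.1 * z * q₀.1) * q₀.1 := by group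
              _ = q.1 * (z : G)⁻¹ * q₀.1 := by rw [e2]
              _ = q.1 * (z : G)⁻¹ * (q.1 * q.1) * q₀.1 := by rw [f1, mul_one]
              _ = (q.1 * (z : G)⁻¹ * q.1) * (q.1 * q₀.1) := by group
              _ = (z : G) * (q.1 * q₀.1) := by rw [e1']⟩
        else 1
      refine Finset.card_le_card_of_injOn c (fun _ _ => by simp) fun q hq q' hq' h => ?_
      rw [Finset.mem_coe] at hq hq'
      simp only [c, dif_pos hq, dif_pos hq', Subtype.mk.injEq] at h
      have e := mul_right_cancel h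
      refine Prod.ext e (mul_left_cancel (a := q.1) ?_)
      rw [(hdata q hq).2.2]
      conv_rhs => rw [e, (hdata q' hq').2.2]
  rw [Finset.offDiag_card, Finset.card_erase_of_mem (Finset.mem_univ _), Finset.card_univ,
    ← Nat.card_eq_fintype_card] at hpairs
  have hCi : C * (Subgroup.centralizer ({x} : Set R)).index = Nat.card R := Subgroup.card_mul_index _
  set i := (Subgroup.centralizer ({x} : Set R)).index
  set m := T.card
  set n := Nat.card R
  have hC0 : 0 < C := Nat.card_pos
  have hm2 : 2 ≤ m := by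
    by_contra h
    have := Nat.mul_le_mul_right N (show m ≤ 1 by omega)
    omega
  have h1 : m * m ≤ 2 * (m * m - m) := by
    have h' : 2 * m ≤ m * m := Nat.mul_le_mul_right m hm2
    omega
  have h2 : n * n ≤ (2 * N ^ 2 * C) * n := by
    calc n * n ≤ (m * N) * (m * N) := Nat.mul_le_mul hm hm
      _ = N ^ 2 * (m * m) := by ring
      _ ≤ N ^ 2 * (2 * (C * n)) := Nat.mul_le_mul_left _ (h1.trans (Nat.mul_le_mul_left 2
          (hpairs.trans (Nat.mul_le_mul_left C (Nat.sub_le _ _)))))
      _ = _ := by ring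
  have h3 : n ≤ 2 * N ^ 2 * C := Nat.le_of_mul_le_mul_right h2 Nat.card_pos
  rw [← hCi, mul_comm C] at h3
  exact Nat.le_of_mul_le_mul_right h3 hC0

/-- A minimal normal subgroup of even order is bounded. -/
theorem card_minimal_le (R : Subgroup G) [hRn : R.Normal]
    (hmin : ∀ K : Subgroup G, K.Normal → K ≤ R → K ≠ ⊥ → K = R) (heven : 2 ∣ Nat.card R) {a : ℕ}
    (ha : ¬ 2 ^ (a + 1) ∣ Nat.card G) {y : G} (hy : y * y = 1) {N : ℕ}
    (hN : Nat.card (Subgroup.centralizer ({y} : Set G)) ≤ N) :
    Nat.card R ≤ max N (max (2 ^ a) (((2 * N ^ 2)!) ^ a)) := by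
  classical
  letI := Fintype.ofFinite G
  have hfac : ∀ k, 2 ^ k ∣ Nat.card G → k ≤ a := fun k hk => by
    by_contra h
    exact ha ((pow_dvd_pow 2 (Nat.not_le.mp h)).trans hk)
  rcases le_or_gt (Nat.card R) N with hle | hgt
  · exact le_max_of_le_left hle
  refine le_max_of_le_right ?_
  by_cases hcomm : IsMulCommutative R
  · -- elementary abelian
    refine le_max_of_le_left ?_
    let Ω : Subgroup G :=
      { carrier := {x | x ∈ R ∧ x * x = 1}
        one_mem' := ⟨R.one_mem, mul_one 1⟩
        mul_mem' := fun {u v} hu hv => ⟨R.mul_mem hu.1 hv.1, by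
          have h : u * v = v * u :=
            congrArg Subtype.val (mul_comm' (⟨u, hu.1⟩ : R) ⟨v, hv.1⟩)
          rw [show u * v * (u * v) = u * (v * u) * v by group, ← h,
            show u * (u * v) * v = u * u * (v * v) by group, hu.2, hv.2, one_mul]⟩
        inv_mem' := fun {u} hu => ⟨R.inv_mem hu.1, by rw [← mul_inv_rev, hu.2, inv_one]⟩ }
    have hΩn : Ω.Normal := ⟨fun x hx g => ⟨hRn.conj_mem x hx.1 g, by
      rw [show g * x * g⁻¹ * (g * x * g⁻¹) = g * (x * x) * g⁻¹ by group, hx.2, mul_one,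
        mul_inv_cancel]⟩⟩
    obtain ⟨z, hz⟩ := exists_prime_orderOf_dvd_card' (G := R) 2 heven
    have hΩ : Ω = R := by
      refine hmin Ω hΩn (fun x hx => hx.1) fun hbot => ?_
      have hmem : (z : G) ∈ Ω := ⟨z.2, by
        have := pow_orderOf_eq_one z
        rw [hz, pow_two] at this
        exact congrArg Subtype.val this⟩
      rw [hbot, Subgroup.mem_bot] at hmem
      rw [show z = 1 from Subtype.ext hmem, orderOf_one] at hz
      omega
    have hp : IsPGroup 2 R := fun x => ⟨1, by
      have hx : (x : G) ∈ Ω := hΩ.symm ▸ x.2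
      apply Subtype.ext
      simpa [pow_two] using hx.2⟩
    obtain ⟨k, hk⟩ := IsPGroup.iff_card.mp hp
    rw [hk]
    exact Nat.pow_le_pow_right two_pos (hfac k (hk ▸ R.card_subgroup_dvd_card))
  refine le_max_of_le_right ?_
  obtain ⟨x, hx1, hxi⟩ := exists_small_index R hy hN hgt
  -- perfect
  have hperf : ⁅R, R⁆ = R := hmin _ inferInstance (Subgroup.commutator_le_self R) fun h => by
    refine hcomm ⟨⟨fun u v => Subtype.ext ?_⟩⟩
    have := Subgroup.commutator_mem_commutator u.2 v.2
    rw [h, Subgroup.mem_bot, commutatorElement_eq_one_iff_mul_comm] at this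
    exact this
  -- conjugates of a maximal normal subgroup
  obtain ⟨K0, ⟨hK0n, hK0t⟩, hK0max⟩ := Set.Finite.exists_maximal
    (Set.toFinite {K : Subgroup R | K.Normal ∧ K ≠ ⊤})
    ⟨⊥, inferInstance, fun h => hx1 (Subgroup.mem_bot.mp (h.symm ▸ Subgroup.mem_top x))⟩
  let cj : G → (R →* R) := fun g => (MulAut.conjNormal g : MulAut R).toMonoidHom
  have hcj : ∀ g (r : R), (cj g r : G) = g * r * g⁻¹ := fun g r => MulAut.conjNormal_apply g r
  let Kf : G → Subgroup R := fun g => K0.comap (cj g)
  have hKn : ∀ g, (Kf g).Normal := fun g => Subgroup.Normal.comap hK0n _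
  have hsurj : ∀ g, Function.Surjective (cj g) := fun g => (MulAut.conjNormal g : MulAut R).surjective
  have hKt : ∀ g, Kf g ≠ ⊤ := fun g h => hK0t (by
    rw [← Subgroup.map_comap_eq_self_of_surjective (hsurj g) K0, show K0.comap (cj g) = ⊤ from h,
      Subgroup.map_top_of_surjective _ (hsurj g)])
  have hKmax : ∀ g (K : Subgroup R), K.Normal → Kf g ≤ K → K ≠ Kf g → K = ⊤ := by
    intro g K hK hle hne
    by_contra ht
    have hmap : (K.map (cj g)).Normal := hK.map _ (hsurj g)
    have hinj : Function.Injective (cj g) := (MulAut.conjNormal g : MulAut R).injective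
    have hle' : K0 ≤ K.map (cj g) := by
      rw [← Subgroup.map_comap_eq_self_of_surjective (hsurj g) K0]
      exact Subgroup.map_mono hle
    have hne' : K.map (cj g) ≠ ⊤ := fun h => ht (by
      rw [← Subgroup.comap_map_eq_self_of_injective hinj K, h, Subgroup.comap_top])
    have := le_antisymm (hK0max ⟨hmap, hne'⟩ hle') hle'
    exact hne (by rw [← Subgroup.comap_map_eq_self_of_injective hinj K, this])
  have hinter : ∀ r : R, (∀ g, r ∈ Kf g) → r = 1 := by
    let J : Subgroup G := (⨅ g, Kf g).map R.subtype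
    have hJn : J.Normal := ⟨by
      rintro _ ⟨r, hr, rfl⟩ h
      refine ⟨cj h r, Subgroup.mem_iInf.mpr fun g => ?_, hcj h r⟩
      show cj g (cj h r) ∈ K0
      have : cj g (cj h r) = cj (g * h) r := Subtype.ext (by rw [hcj, hcj, hcj]; group)
      rw [this]
      exact Subgroup.mem_iInf.mp hr (g * h)⟩
    intro r hr
    by_contra hr1
    have hJR : J = R := hmin J hJn (Subgroup.map_subtype_le _) fun h => hr1 (by
      have : R.subtype r ∈ J := ⟨r, Subgroup.mem_iInf.mpr hr, rfl⟩
      rw [h, Subgroup.mem_bot] at this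
      exact Subtype.ext this)
    refine hKt 1 (eq_top_iff.mpr fun z _ => ?_)
    have hzJ : (z : G) ∈ J := by rw [hJR]; exact z.2
    obtain ⟨w, hw, hwz⟩ := hzJ
    rw [← show w = z from Subtype.ext hwz]
    exact Subgroup.mem_iInf.mp hw 1
  obtain ⟨g₁, hg₁⟩ : ∃ g, x ∉ Kf g := by
    by_contra h
    push Not at h
    exact hx1 (hinter x h)
  -- the simple quotient is bounded
  set L := (Kf g₁).index with hL
  have hidx : ∀ g, (Kf g).index = L := fun g => by
    rw [hL, Subgroup.index_comap_of_surjective _ (hsurj g),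
      Subgroup.index_comap_of_surjective _ (hsurj g₁)]
  have hLle : L ≤ (2 * N ^ 2)! := by
    haveI := hKn g₁
    set mk := QuotientGroup.mk' (Kf g₁) with hmk
    have hmks : Function.Surjective mk := QuotientGroup.mk'_surjective _
    set D : Subgroup (R ⧸ Kf g₁) := (Subgroup.centralizer ({x} : Set R)).map mk with hD
    have hDne : D ≠ ⊤ := by
      intro htop
      have hcen : mk x ∈ Subgroup.center (R ⧸ Kf g₁) := by
        rw [Subgroup.mem_center_iff]
        intro q
        obtain ⟨c, hc, rfl⟩ := htop.symm ▸ Subgroup.mem_top q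
        rw [← map_mul, ← map_mul, Subgroup.mem_centralizer_singleton_iff.mp hc]
      have hlt : Kf g₁ ≠ (Subgroup.center (R ⧸ Kf g₁)).comap mk := fun h => hg₁ (h ▸ hcen)
      have hct := hKmax g₁ _ inferInstance (fun w hw => by
        rw [Subgroup.mem_comap, hmk, QuotientGroup.mk'_apply, (QuotientGroup.eq_one_iff w).mpr hw]
        exact one_mem _) (Ne.symm hlt)
      refine hKt g₁ (eq_top_iff.mpr fun w _ => ?_)
      have hsub : commutator R ≤ Kf g₁ := by
        rw [commutator_def, Subgroup.commutator_le]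
        intro u _ v _
        rw [← QuotientGroup.eq_one_iff, ← QuotientGroup.mk'_apply, ← hmk, map_commutatorElement,
          commutatorElement_eq_one_iff_mul_comm]
        have hu : mk u ∈ Subgroup.center (R ⧸ Kf g₁) := by
          show u ∈ (Subgroup.center (R ⧸ Kf g₁)).comap mk
          rw [hct]; trivial
        exact (Subgroup.mem_center_iff.mp hu (mk v)).symm
      refine hsub ?_
      have : (commutator R).map R.subtype = R := by rw [Subgroup.map_subtype_commutator, hperf]
      have hwm : (w : G) ∈ (commutator R).map R.subtype := by rw [this]; exact w.2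
      obtain ⟨w', hw', hww⟩ := hwm
      rwa [← show w' = w from Subtype.ext hww]
    have hcore : D.normalCore = ⊥ := by
      have hn : (D.normalCore.comap mk).Normal := inferInstance
      by_contra hne
      have htop := hKmax g₁ _ hn (fun w hw => by
        rw [Subgroup.mem_comap, hmk, QuotientGroup.mk'_apply, (QuotientGroup.eq_one_iff w).mpr hw]
        exact one_mem _) (fun h => hne (by
          rw [← Subgroup.map_comap_eq_self_of_surjective hmks D.normalCore, h,
            QuotientGroup.map_mk'_self]))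
      refine hDne (top_le_iff.mp (le_trans ?_ D.normalCore_le))
      rw [← Subgroup.map_comap_eq_self_of_surjective hmks D.normalCore, htop,
        Subgroup.map_top_of_surjective _ hmks]
    have h1 : L ∣ D.index ! := by
      have h := Subgroup.card_subgroup_dvd_card (MulAction.toPermHom (R ⧸ Kf g₁)
        ((R ⧸ Kf g₁) ⧸ D)).range
      rw [Nat.card_perm, ← Subgroup.index_eq_card, ← Subgroup.index_ker,
        ← Subgroup.normalCore_eq_ker, hcore, Subgroup.index_bot, ← Subgroup.index_eq_card] at h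
      exact h
    refine (Nat.le_of_dvd (Nat.factorial_pos _) h1).trans (Nat.factorial_le ?_)
    exact (Nat.le_of_dvd (Nat.pos_of_ne_zero Subgroup.index_ne_zero_of_finite)
      (Subgroup.index_map_dvd _ hmks)).trans hxi
  have hpow : ∀ J : Subgroup R, J.Normal → ∃ k, Nat.card J = L ^ k := by
    intro J
    induction hn : Nat.card J using Nat.strong_induction_on generalizing J with
    | _ n ih =>
      intro hJ
      by_cases hJb : J = ⊥
      · exact ⟨0, by rw [← hn, hJb, Subgroup.card_bot, pow_zero]⟩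
      obtain ⟨g, hg⟩ : ∃ g, ¬ J ≤ Kf g := by
        by_contra h
        push Not at h
        exact hJb (Subgroup.eq_bot_iff_forall _ |>.mpr fun r hr => hinter r fun g => h g hr)
      haveI := hKn g
      haveI := hJ
      have hsup : J ⊔ Kf g = ⊤ := hKmax g _ inferInstance le_sup_right fun h =>
        hg (h ▸ le_sup_left)
      have hrel : (Kf g).relIndex J = L := by
        rw [← Subgroup.relIndex_sup_right, hsup, Subgroup.relIndex_top_right, hidx]
      have hcard : Nat.card J = L * Nat.card (J ⊓ Kf g : Subgroup R) := by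
        rw [← hrel, ← Subgroup.inf_relIndex_right, Subgroup.relIndex,
          inf_comm J (Kf g), mul_comm,
          ← Nat.card_congr (Subgroup.subgroupOfEquivOfLe (inf_le_right : Kf g ⊓ J ≤ J)).toEquiv,
          Subgroup.card_mul_index]
      have hL2 : 1 < L := by
        rw [← hidx g]
        have := (Kf g).index_eq_one.not.mpr (hKt g)
        have := Subgroup.index_ne_zero_of_finite (H := Kf g)
        omega
      have hlt : Nat.card (J ⊓ Kf g : Subgroup R) < n := by
        rw [← hn, hcard]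
        exact lt_mul_left Nat.card_pos hL2
      obtain ⟨k, hk⟩ := ih _ hlt _ rfl inferInstance
      exact ⟨k + 1, by rw [← hn, hcard, hk, pow_succ, mul_comm]⟩
  obtain ⟨k, hk⟩ := hpow ⊤ inferInstance
  rw [Subgroup.card_top] at hk
  rw [hk]
  have hL2 : 2 ∣ L := Nat.prime_two.dvd_of_dvd_pow (hk ▸ heven)
  have hka : k ≤ a := hfac k ((pow_dvd_pow_of_dvd hL2 k).trans (hk ▸ R.card_subgroup_dvd_card))
  exact (Nat.pow_le_pow_left hLle k).trans (Nat.pow_le_pow_right (Nat.factorial_pos _) hka)

/-- The bound. -/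
theorem exists_bound (a : ℕ) : ∀ N : ℕ, ∃ B : ℕ, ∀ (G : Type u) [Group G] [Finite G],
    ¬ 2 ^ (a + 1) ∣ Nat.card G → ∀ E : Subgroup G, (∀ x ∈ E, x * x = 1) → 4 ≤ Nat.card E →
    (∀ x ∈ E, x ≠ 1 → Nat.card (Subgroup.centralizer ({x} : Set G)) ≤ N) → Nat.card G ≤ B := by
  induction a with
  | zero =>
    intro N
    refine ⟨0, fun G _ _ ha E hE h4 _ => absurd ?_ ha⟩
    have hp : IsPGroup 2 E := fun x => ⟨1, Subtype.ext (by simpa [pow_two] using hE x x.2)⟩
    obtain ⟨k, hk⟩ := IsPGroup.iff_card.mp hp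
    rcases k with - | k
    · rw [hk] at h4; omega
    · exact (dvd_pow_self 2 k.succ_ne_zero).trans (hk ▸ E.card_subgroup_dvd_card)
  | succ a ih =>
    intro N
    set N1 := N * N ^ 3 with hN1
    set Rb := max N1 (max (2 ^ (a + 1)) (((2 * N1 ^ 2)!) ^ (a + 1))) with hRb
    obtain ⟨B, hB⟩ := ih (Rb * N1)
    refine ⟨N ^ 3 * max (Rb * N1) (Rb * B), fun G _ _ ha E hE h4 hC => ?_⟩
    classical
    obtain ⟨y₁, hy₁, hy₁1⟩ : ∃ y ∈ E, y ≠ 1 := by
      by_contra h
      push Not at h
      have : E = ⊥ := (Subgroup.eq_bot_iff_forall _).mpr h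
      rw [this, Subgroup.card_bot] at h4
      omega
    obtain ⟨y₂, hy₂, hy₂1, hy₂₁⟩ : ∃ y ∈ E, y ≠ 1 ∧ y ≠ y₁ := by
      by_contra h
      push Not at h
      have hsub : Nat.card E ≤ Nat.card ({1, y₁} : Set G) :=
        Nat.card_le_card_of_injective (fun e : E => (⟨e.1, by
          by_cases he : e.1 = 1
          · exact Or.inl he
          · exact Or.inr (h e e.2 he)⟩ : ({1, y₁} : Set G)))
          fun e e' he => Subtype.ext (congrArg (fun z : ({1, y₁} : Set G) => (z : G)) he)
      rw [Nat.card_coe_set_eq] at hsub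
      have := Set.ncard_le_ncard (s := ({1, y₁} : Set G)) Set.Subset.rfl
      have h2 := Set.ncard_insert_le (1 : G) {y₁}
      rw [Set.ncard_singleton] at h2
      omega
    have hcomm : Commute y₁ y₂ := by
      have h := hE _ (E.mul_mem hy₁ hy₂)
      calc y₁ * y₂ = y₁ * (y₁ * y₂ * (y₁ * y₂)) * y₂ := by rw [h, mul_one]
        _ = (y₁ * y₁) * (y₂ * y₁) * (y₂ * y₂) := by group
        _ = y₂ * y₁ := by rw [hE _ hy₁, hE _ hy₂, one_mul, mul_one]
    obtain ⟨O, ⟨hOn, hOodd⟩, hOmax⟩ := Set.Finite.exists_maximal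
      (Set.toFinite {O : Subgroup G | O.Normal ∧ Odd (Nat.card O)})
      ⟨⊥, inferInstance, by rw [Subgroup.card_bot]; exact odd_one⟩
    haveI := hOn
    have hOle : Nat.card O ≤ N ^ 3 := by
      refine (card_odd_le O hOodd (hE _ hy₁) (hE _ hy₂) hcomm).trans ?_
      rw [show N ^ 3 = N * (N * N) by ring]
      refine Nat.mul_le_mul (hC _ hy₁ hy₁1) (Nat.mul_le_mul (hC _ hy₂ hy₂1)
        (hC _ (E.mul_mem hy₁ hy₂) fun h => hy₂₁ ?_))
      rw [← inv_eq_of_mul_eq_one_right h, inv_eq_of_mul_eq_one_right (hE _ hy₁)]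
    set mk := QuotientGroup.mk' O with hmk
    have hmks : Function.Surjective mk := QuotientGroup.mk'_surjective O
    have hEO : ∀ x ∈ E, x ∈ O → x = 1 := fun x hx hxO => by
      have h2 : orderOf x ∣ 2 := orderOf_dvd_of_pow_eq_one (by rw [pow_two]; exact hE x hx)
      have h3 : orderOf x ∣ Nat.card O := O.orderOf_dvd_natCard hxO
      have : orderOf x ∣ 1 := by
        have := Nat.dvd_gcd h2 h3
        rwa [Nat.Coprime.gcd_eq_one (Nat.coprime_two_left.mpr hOodd)] at this
      exact orderOf_eq_one_iff.mp (Nat.dvd_one.mp this)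
    have hC1 : ∀ x ∈ E, x ≠ 1 →
        Nat.card (Subgroup.centralizer ({mk x} : Set (G ⧸ O))) ≤ N1 := fun x hx hx1 => by
      rw [hN1, mul_comm]
      exact (card_centralizer_mk_le O x).trans (Nat.mul_le_mul hOle (hC x hx hx1))
    have hha : ¬ 2 ^ (a + 1 + 1) ∣ Nat.card (G ⧸ O) := fun h =>
      ha (h.trans O.card_quotient_dvd_card)
    have hcardG : Nat.card G = Nat.card (G ⧸ O) * Nat.card O :=
      Subgroup.card_eq_card_quotient_mul_card_subgroup O
    have hnt : Nontrivial (G ⧸ O) :=
      ⟨⟨mk y₁, 1, fun h => hy₁1 (hEO _ hy₁ ((QuotientGroup.eq_one_iff y₁).mp h))⟩⟩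
    obtain ⟨R, ⟨hRn, hRb'⟩, hRmin⟩ := Set.Finite.exists_minimal
      (Set.toFinite {R : Subgroup (G ⧸ O) | R.Normal ∧ R ≠ ⊥}) ⟨⊤, inferInstance, top_ne_bot⟩
    haveI := hRn
    have heven : 2 ∣ Nat.card R := by
      by_contra hodd
      set R' : Subgroup G := R.comap mk with hR'
      have hcard : Nat.card R' = Nat.card O * Nat.card R := by
        have h1 := R'.card_mul_index
        have h2 := R.card_mul_index
        rw [hR', Subgroup.index_comap_of_surjective _ hmks] at h1
        refine Nat.eq_of_mul_eq_mul_right (Nat.pos_of_ne_zero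
          (Subgroup.index_ne_zero_of_finite (H := R))) ?_
        rw [hR', h1, mul_assoc, h2, hcardG, mul_comm]
      have hle : O ≤ R' := fun o ho => by
        rw [hR', Subgroup.mem_comap, hmk, QuotientGroup.mk'_apply,
          (QuotientGroup.eq_one_iff o).mpr ho]
        exact one_mem _
      have hmem : R' ≤ O := hOmax ⟨inferInstance, by
        rw [hcard]
        exact hOodd.mul (Nat.odd_iff.mpr (by omega))⟩ hle
      refine hRb' ((Subgroup.eq_bot_iff_forall _).mpr fun q hq => ?_)
      obtain ⟨g, rfl⟩ := hmks q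
      exact (QuotientGroup.eq_one_iff g).mpr (hmem (show g ∈ R' from hq))
    have hRle : Nat.card R ≤ Rb := card_minimal_le R
      (fun K hK hKR hKb => le_antisymm hKR (hRmin ⟨hK, hKb⟩ hKR)) heven hha
      (y := mk y₁) (by rw [← map_mul, hE _ hy₁, map_one]) (hC1 _ hy₁ hy₁1)
    suffices h : Nat.card (G ⧸ O) ≤ max (Rb * N1) (Rb * B) by
      rw [hcardG, mul_comm]
      exact Nat.mul_le_mul hOle h
    by_cases hER : ∃ x ∈ E, x ≠ 1 ∧ mk x ∈ R
    · obtain ⟨x, hx, hx1, hxR⟩ := hER
      exact le_max_of_le_left ((card_le_of_mem R hxR).trans (Nat.mul_le_mul hRle (hC1 x hx hx1)))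
    push Not at hER
    refine le_max_of_le_right ?_
    rw [Subgroup.card_eq_card_quotient_mul_card_subgroup R, mul_comm]
    refine Nat.mul_le_mul hRle ?_
    set π := (QuotientGroup.mk' R).comp mk with hπ
    have hinj : Function.Injective (π.comp E.subtype) := by
      rw [← MonoidHom.ker_eq_bot_iff, Subgroup.eq_bot_iff_forall]
      intro x hx
      by_contra hx1
      exact hER x x.2 (fun h => hx1 (Subtype.ext h)) ((QuotientGroup.eq_one_iff (mk x)).mp hx)
    refine hB _ ?_ (E.map π) ?_ ?_ ?_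
    · intro h
      apply hha
      rw [Subgroup.card_eq_card_quotient_mul_card_subgroup R, pow_succ]
      exact mul_dvd_mul h heven
    · rintro _ ⟨x, hx, rfl⟩
      rw [← map_mul, hE x hx, map_one]
    · refine h4.trans (le_of_eq ?_)
      rw [← Subgroup.card_map_of_injective (K := (⊤ : Subgroup E)) hinj |>.trans Subgroup.card_top,
        ← Subgroup.map_map, ← MonoidHom.range_eq_map, Subgroup.range_subtype]
    · rintro _ ⟨x, hx, rfl⟩ hx1
      refine (card_centralizer_mk_le R (mk x)).trans (Nat.mul_le_mul hRle (hC1 x hx ?_))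
      rintro rfl
      exact hx1 (map_one _)

end Cfsg.Agent.Lib.DeficiencyBound.GroupBound
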